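import Groth.Agent.FlatMor.FlatIdealC.Tensor
import Mathlib.RingTheory.Flat.Basic
import Mathlib.RingTheory.Filtration
import Mathlib.RingTheory.LocalRing.RingHom.Basic
import Mathlib.RingTheory.Ideal.Quotient.Operations

/-!
# Flatness at primes over the closed point after a base change
-/

set_option autoImplicit false
set_option linter.style.haveILetI false

universe u

open TensorProduct Function IsLocalRing

namespace Groth.Agent.FlatMor.FlatIdealC

variable {R S R' S' : Type u} [CommRing R] [CommRing S] [CommRing R'] [CommRing S']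
  [Algebra R S] [Algebra R R'] [Algebra S S'] [Algebra R' S'] [Algebra R S']
  [IsScalarTower R S S'] [IsScalarTower R R' S'] [Algebra.IsPushout R S R' S']
  {M M' : Type u} [AddCommGroup M] [Module S M] [Module R M] [IsScalarTower R S M]
  [AddCommGroup M'] [Module S' M'] [Module R' M'] [IsScalarTower R' S' M'] [Module S M']
  [IsScalarTower S S' M'] (f : M →ₗ[S] M') (hf : IsBaseChange S' f)

variable (R R')

/-- The base change of `M` along the base ring. -/
noncomputable def baseEquiv : R' ⊗[R] M ≃ₗ[R'] M' :=
  haveI : Algebra.IsPushout R R' S S' := Algebra.IsPushout.symm ‹_›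
  (Algebra.IsPushout.cancelBaseChange R R' S S' M).symm.trans (hf.equiv.restrictScalars R')

theorem baseEquiv_tmul (r : R') (m : M) : baseEquiv R R' f hf (r ⊗ₜ[R] m) = r • f m := by
  simp [baseEquiv, IsBaseChange.equiv_tmul]

/-- Tensoring the base change with a module over the new base. -/
noncomputable def tensorEquiv (A : Type u) [AddCommGroup A] [Module R' A] [Module R A]
    [IsScalarTower R R' A] : M ⊗[R] A ≃+ M' ⊗[R'] A :=
  (TensorProduct.comm R M A).toAddEquiv.trans
    ((AlgebraTensorModule.cancelBaseChange R R' R' A M).symm.toAddEquiv.trans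
      ((TensorProduct.congr (LinearEquiv.refl R' A) (baseEquiv R R' f hf)).toAddEquiv.trans
        (TensorProduct.comm R' A M').toAddEquiv))

variable {A B : Type u} [AddCommGroup A] [Module R' A] [Module R A] [IsScalarTower R R' A]
  [AddCommGroup B] [Module R' B] [Module R B] [IsScalarTower R R' B]

theorem tensorEquiv_tmul (m : M) (x : A) :
    tensorEquiv R R' f hf A (m ⊗ₜ[R] x) = f m ⊗ₜ[R'] x := by
  simp [tensorEquiv, baseEquiv_tmul]

theorem tensorEquiv_smul (s : S) (z : M ⊗[R] A) :
    tensorEquiv R R' f hf A (s • z) = algebraMap S S' s • tensorEquiv R R' f hf A z := by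
  induction z using TensorProduct.induction_on with
  | zero => simp
  | tmul m x =>
    rw [TensorProduct.smul_tmul', tensorEquiv_tmul, tensorEquiv_tmul, TensorProduct.smul_tmul',
      algebraMap_smul, map_smul]
  | add x y hx hy => simp only [smul_add, map_add, hx, hy]

theorem tensorEquiv_lTensor (a : A →ₗ[R'] B) (z : M ⊗[R] A) :
    a.lTensor M' (tensorEquiv R R' f hf A z) = tensorEquiv R R' f hf B ((a.restrictScalars R).lTensor M z) := by
  induction z using TensorProduct.induction_on with
  | zero => simp
  | tmul m x => simp [tensorEquiv_tmul]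
  | add x y hx hy => simp only [map_add, hx, hy]

variable [IsLocalRing R] [IsLocalRing R'] [IsLocalHom (algebraMap R R')]

include hf in
/-- Flatness over the closed point survives base change. -/
theorem flatAt_of_le_ker (I : Ideal R)
    (hI : ∀ (q : Ideal S) [q.IsPrime], q.comap (algebraMap R S) = maximalIdeal R →
      Module.Flat (R ⧸ I) ((R ⧸ I) ⊗[R] LocalizedModule q.primeCompl M))
    (hker : I ≤ RingHom.ker (algebraMap R R'))
    (q' : Ideal S') [q'.IsPrime] (hq' : q'.comap (algebraMap R' S') = maximalIdeal R') :
    Module.Flat R' (LocalizedModule q'.primeCompl M') := by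
  let q := q'.comap (algebraMap S S')
  have hq : q.comap (algebraMap R S) = maximalIdeal R := by
    rw [Ideal.comap_comap, ← IsScalarTower.algebraMap_eq R S S', IsScalarTower.algebraMap_eq R R' S',
      ← Ideal.comap_comap, hq']
    exact ((IsLocalRing.local_hom_TFAE (algebraMap R R')).out 0 4).mp ‹_›
  haveI := hI q hq
  letI : Algebra (R ⧸ I) R' := (Ideal.Quotient.lift I (algebraMap R R') hker).toAlgebra
  haveI : IsScalarTower R (R ⧸ I) R' := IsScalarTower.of_algebraMap_eq fun _ => rfl
  have hflat : Module.Flat R' (R' ⊗[R] LocalizedModule q.primeCompl M) := flat_of_tower R (R ⧸ I) R' _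
  rw [Module.Flat.iff_lTensor_preserves_injective_linearMap]
  intro A B _ _ _ _ a ha
  letI : Module R A := Module.compHom A (algebraMap R R')
  letI : Module R B := Module.compHom B (algebraMap R R')
  haveI : IsScalarTower R R' A := IsScalarTower.of_algebraMap_smul fun _ _ => rfl
  haveI : IsScalarTower R R' B := IsScalarTower.of_algebraMap_smul fun _ _ => rfl
  refine injective_localized q'.primeCompl a fun z hz => ?_
  obtain ⟨z, rfl⟩ := (tensorEquiv R R' f hf A).surjective z
  rw [tensorEquiv_lTensor, EmbeddingLike.map_eq_zero_iff] at hz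
  obtain ⟨t, ht, htz⟩ := exists_smul_eq_zero q.primeCompl (a.restrictScalars R)
    ((flat_baseChange_iff R R' _).1 hflat A B a ha) hz
  exact ⟨algebraMap S S' t, ht, by rw [← tensorEquiv_smul, htz, map_zero]⟩

omit [IsLocalHom (algebraMap R R')] in
include hf in
/-- Flatness over the closed point of the base change, read modulo powers of the maximal ideal. -/
theorem flat_quot_of_flatAt
    (H : ∀ (q' : Ideal S') [q'.IsPrime], q'.comap (algebraMap R' S') = maximalIdeal R' →
      Module.Flat R' (LocalizedModule q'.primeCompl M'))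
    (n : ℕ) (q : Ideal S) [q.IsPrime] :
    Module.Flat (R' ⧸ maximalIdeal R' ^ n)
      ((R' ⧸ maximalIdeal R' ^ n) ⊗[R] LocalizedModule q.primeCompl M) := by
  rw [flat_baseChange_iff]
  intro A B _ _ _ _ _ _ _ _ a ha
  letI : Module R' A := Module.compHom A (Ideal.Quotient.mk (maximalIdeal R' ^ n))
  letI : Module R' B := Module.compHom B (Ideal.Quotient.mk (maximalIdeal R' ^ n))
  haveI : IsScalarTower R' (R' ⧸ maximalIdeal R' ^ n) A := IsScalarTower.of_algebraMap_smul fun _ _ => rfl
  haveI : IsScalarTower R' (R' ⧸ maximalIdeal R' ^ n) B := IsScalarTower.of_algebraMap_smul fun _ _ => rfl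
  haveI : IsScalarTower R R' A := IsScalarTower.of_algebraMap_smul fun r x => by
    rw [← algebraMap_smul (R' ⧸ maximalIdeal R' ^ n), ← IsScalarTower.algebraMap_apply, algebraMap_smul]
  haveI : IsScalarTower R R' B := IsScalarTower.of_algebraMap_smul fun r x => by
    rw [← algebraMap_smul (R' ⧸ maximalIdeal R' ^ n), ← IsScalarTower.algebraMap_apply, algebraMap_smul]
  let a' : A →ₗ[R'] B := a.restrictScalars R'
  refine injective_localized q.primeCompl (a.restrictScalars R) fun z hz => ⟨1, one_mem _, ?_⟩
  rw [one_smul]
  apply (tensorEquiv R R' f hf A).injective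
  rw [map_zero]
  have hw : a'.lTensor M' (tensorEquiv R R' f hf A z) = 0 := by
    rw [tensorEquiv_lTensor]
    exact (congrArg (tensorEquiv R R' f hf B) hz).trans (map_zero _)
  generalize tensorEquiv R R' f hf A z = w at hw ⊢
  by_contra hne
  let J : Ideal S' := LinearMap.ker (LinearMap.toSpanSingleton S' _ w)
  have hJ : J ≠ ⊤ := fun h => hne <| by
    have h1 : (1 : S') ∈ J := h ▸ Submodule.mem_top
    simpa [J, LinearMap.mem_ker] using h1
  obtain ⟨P, hP, hJP⟩ := Ideal.exists_le_maximal J hJ
  haveI := hP
  rcases eq_or_ne (P.comap (algebraMap R' S')) (maximalIdeal R') with h | h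
  · haveI := H P h
    obtain ⟨t, ht, htw⟩ := exists_smul_eq_zero P.primeCompl a'
      (Module.Flat.lTensor_preserves_injective_linearMap a' ha) hw
    exact ht (hJP (LinearMap.mem_ker.2 htw))
  · obtain ⟨r, hr, hrP⟩ := SetLike.exists_of_lt
      ((IsLocalRing.le_maximalIdeal (Ideal.IsPrime.ne_top inferInstance)).lt_of_ne h)
    have hkill : ∀ v : M' ⊗[R'] A, algebraMap R' S' (r ^ n) • v = 0 := fun v => by
      rw [algebraMap_smul]
      induction v using TensorProduct.induction_on with
      | zero => simp
      | tmul m x =>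
        rw [← TensorProduct.tmul_smul]
        have h0 : r ^ n • x = 0 := by
          rw [← algebraMap_smul (R' ⧸ maximalIdeal R' ^ n) (r ^ n) x, Ideal.Quotient.algebraMap_eq,
            Ideal.Quotient.eq_zero_iff_mem.2 (Ideal.pow_mem_pow hr n), zero_smul]
        rw [h0, TensorProduct.tmul_zero]
      | add x y hx hy => rw [smul_add, hx, hy, add_zero]
    have hrn : algebraMap R' S' (r ^ n) ∈ P := hJP (LinearMap.mem_ker.2 (hkill w))
    rw [map_pow] at hrn
    exact hrP (hP.isPrime.mem_of_pow_mem n hrn)

end Groth.Agent.FlatMor.FlatIdealC
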