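import Groth.Agent.FlatMor.FlatIdealC.Tensor
import Groth.Agent.Fibres16.FlatIdeal
import Groth.Agent.LocFlat.Basic
import Mathlib.RingTheory.AdicCompletion.Basic
import Mathlib.RingTheory.Filtration

/-!
# The least flattening ideal over a complete local ring
-/

set_option autoImplicit false
set_option linter.style.haveILetI false

universe u

open TensorProduct Function IsLocalRing

namespace Groth.Agent.FlatMor.FlatIdealC

variable (R : Type u) [CommRing R] [IsLocalRing R]

/-- The flattening ideal modulo a power of the maximal ideal. -/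
theorem exists_level (N : Type u) [AddCommGroup N] [Module R N] (n : ℕ) :
    ∃ J : Ideal R, (n ≠ 0 → J ≤ maximalIdeal R) ∧ ∀ (R' : Type u) [CommRing R'] [Algebra R R'],
      (maximalIdeal R ^ n).map (algebraMap R R') = ⊥ →
      (Module.Flat R' (R' ⊗[R] N) ↔ J.map (algebraMap R R') = ⊥) := by
  classical
  rcases eq_or_ne n 0 with rfl | hn
  · refine ⟨⊥, fun h => absurd rfl h, fun R' _ _ h => ?_⟩
    rw [pow_zero, Ideal.one_eq_top, Ideal.map_top] at h
    haveI : Subsingleton R' := subsingleton_of_bot_eq_top (α := Ideal R') h.symm |> fun _ =>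
      ⟨fun x y => by
        have hx : x - y ∈ (⊤ : Ideal R') := trivial
        rw [h, Ideal.mem_bot, sub_eq_zero] at hx
        exact hx⟩
    refine ⟨fun _ => Ideal.map_bot, fun _ => inferInstance⟩
  let Rn := R ⧸ maximalIdeal R ^ n
  let N' := Rn ⊗[R] N
  let mb : Ideal Rn := (maximalIdeal R).map (Ideal.Quotient.mk (maximalIdeal R ^ n))
  have hnil : IsNilpotent mb := ⟨n, by
    rw [← Ideal.map_pow, Ideal.map_quotient_self, Ideal.zero_eq_bot]⟩
  have hker : RingHom.ker (Ideal.Quotient.mk (maximalIdeal R ^ n)) ≤ maximalIdeal R := by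
    rw [Ideal.mk_ker]; exact Ideal.pow_le_self hn
  haveI hmax : mb.IsMaximal :=
    (Ideal.map_eq_top_or_isMaximal_of_surjective _ Ideal.Quotient.mk_surjective
      (maximalIdeal.isMaximal R)).resolve_left fun h => by
        have := congrArg (Ideal.comap (Ideal.Quotient.mk (maximalIdeal R ^ n))) h
        rw [Ideal.comap_map_of_surjective _ Ideal.Quotient.mk_surjective, ← RingHom.ker_eq_comap_bot,
          Ideal.comap_top, sup_eq_left.2 hker] at this
        exact (maximalIdeal.isMaximal R).ne_top this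
  letI := Ideal.Quotient.field mb
  haveI : Module.Free (Rn ⧸ mb) ((Rn ⧸ mb) ⊗[Rn] N') := Module.Free.of_divisionRing _ _
  obtain ⟨J, hJ, hiff⟩ := Groth.Agent.Fibres16.FlatIdeal.exists_flattening_ideal mb hnil N'
  refine ⟨J.comap (Ideal.Quotient.mk (maximalIdeal R ^ n)), fun _ => ?_, fun R' _ _ h => ?_⟩
  · refine (Ideal.comap_mono hJ).trans ?_
    rw [Ideal.comap_map_of_surjective _ Ideal.Quotient.mk_surjective, ← RingHom.ker_eq_comap_bot,
      sup_eq_left.2 hker]
  letI : Algebra Rn R' := (Ideal.Quotient.lift _ (algebraMap R R') fun r hr => by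
    rw [← Ideal.mem_bot, ← h]; exact Ideal.mem_map_of_mem _ hr).toAlgebra
  haveI : IsScalarTower R Rn R' := IsScalarTower.of_algebraMap_eq fun _ => rfl
  let e : R' ⊗[Rn] N' ≃ₗ[R'] R' ⊗[R] N := AlgebraTensorModule.cancelBaseChange R Rn R' R' N
  rw [show Module.Flat R' (R' ⊗[R] N) ↔ Module.Flat R' (R' ⊗[Rn] N') from
    ⟨fun _ => Module.Flat.of_linearEquiv e, fun _ => Module.Flat.of_linearEquiv e.symm⟩, hiff R']
  rw [show J.map (algebraMap Rn R') = (J.comap (Ideal.Quotient.mk (maximalIdeal R ^ n))).map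
    (algebraMap R R') by
      rw [IsScalarTower.algebraMap_eq R Rn R', ← Ideal.map_map]
      exact congrArg _ (Ideal.map_comap_of_surjective _ Ideal.Quotient.mk_surjective J).symm]

omit [IsLocalRing R] in
theorem map_quot_eq_bot_iff (K J : Ideal R) : J.map (algebraMap R (R ⧸ K)) = ⊥ ↔ J ≤ K := by
  rw [Ideal.map_eq_bot_iff_le_ker, Ideal.Quotient.algebraMap_eq, Ideal.mk_ker]

variable [IsNoetherianRing R]

/-- Flatness over `R ⧸ I` from flatness modulo all powers of the maximal ideal. -/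
theorem flat_of_levels {L : Type u} [CommRing L] [Algebra R L] [IsNoetherianRing L] [IsLocalRing L]
    [IsLocalHom (algebraMap R L)] (N : Type u) [AddCommGroup N] [Module R N] [Module L N]
    [IsScalarTower R L N] [Module.Finite L N] (I : Ideal R) (hI : I ≤ maximalIdeal R)
    (h : ∀ n : ℕ, Module.Flat (R ⧸ (I ⊔ maximalIdeal R ^ n)) ((R ⧸ (I ⊔ maximalIdeal R ^ n)) ⊗[R] N)) :
    Module.Flat (R ⧸ I) ((R ⧸ I) ⊗[R] N) := by
  classical
  let Rb := R ⧸ I
  let LL := Rb ⊗[R] L
  letI : Algebra L LL := Algebra.TensorProduct.rightAlgebra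
  have hsurj : Surjective (algebraMap L LL) := by
    intro z
    induction z using TensorProduct.induction_on with
    | zero => exact ⟨0, map_zero _⟩
    | tmul c x =>
      obtain ⟨c, rfl⟩ := Ideal.Quotient.mk_surjective c
      refine ⟨c • x, ?_⟩
      show (1 : Rb) ⊗ₜ[R] (c • x) = _
      rw [TensorProduct.tmul_smul, TensorProduct.smul_tmul', Algebra.smul_def, mul_one]
      rfl
    | add x y hx hy =>
      obtain ⟨x, rfl⟩ := hx
      obtain ⟨y, rfl⟩ := hy
      exact ⟨x + y, map_add _ _ _⟩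
  haveI : IsNoetherianRing LL := isNoetherianRing_of_surjective L LL _ hsurj
  haveI : Algebra.IsPushout R Rb L LL := inferInstance
  let M' := LL ⊗[L] N
  let e : M' ≃ₗ[Rb] Rb ⊗[R] N := Algebra.IsPushout.cancelBaseChange R Rb L LL N
  haveI : Module.Finite LL M' := Module.Finite.base_change L LL N
  let mb : Ideal Rb := (maximalIdeal R).map (Ideal.Quotient.mk I)
  have hjac : mb.map (algebraMap Rb LL) ≤ Ideal.jacobson ⊥ := by
    rw [Ideal.map_map, show (algebraMap Rb LL).comp (Ideal.Quotient.mk I) =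
      (algebraMap L LL).comp (algebraMap R L) by
        ext r
        exact (IsScalarTower.algebraMap_apply R Rb LL r).symm.trans (IsScalarTower.algebraMap_apply R L LL r),
      ← Ideal.map_map]
    refine (Ideal.map_mono (((IsLocalRing.local_hom_TFAE (algebraMap R L)).out 0 2).mp ‹IsLocalHom (algebraMap R L)›)).trans ?_
    rw [← IsLocalRing.jacobson_eq_maximalIdeal (⊥ : Ideal L) bot_ne_top]
    refine Ideal.map_le_iff_le_comap.2 fun x hx => ?_
    rw [Ideal.mem_comap, Ideal.mem_jacobson_bot]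
    intro z
    obtain ⟨z, rfl⟩ := hsurj z
    simpa using (Ideal.mem_jacobson_bot.1 hx z).map (algebraMap L LL)
  suffices Module.Flat Rb M' from Module.Flat.of_linearEquiv e.symm
  refine Groth.Agent.LocFlat.flat_of_forall_pow (S := LL) M' mb hjac fun n A B _ _ _ _ a ha hB => ?_
  let K := I ⊔ maximalIdeal R ^ n
  let Q := R ⧸ K
  letI : Algebra Rb Q := (Ideal.Quotient.factor (le_sup_left : I ≤ K)).toAlgebra
  haveI : IsScalarTower R Rb Q := IsScalarTower.of_algebraMap_eq fun _ => rfl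
  have hQsurj : Surjective (algebraMap Rb Q) := Ideal.Quotient.factor_surjective _
  have hkerQ : RingHom.ker (algebraMap Rb Q) = mb ^ n := by
    rw [← Ideal.map_pow]
    refine le_antisymm (fun x hx => ?_) (Ideal.map_le_iff_le_comap.2 fun r hr =>
      Ideal.Quotient.eq_zero_iff_mem.2 (Submodule.mem_sup_right hr))
    obtain ⟨r, rfl⟩ := Ideal.Quotient.mk_surjective x
    obtain ⟨i, hi, j, hj, rfl⟩ := Submodule.mem_sup.1 (Ideal.Quotient.eq_zero_iff_mem.1 hx)
    rw [map_add, Ideal.Quotient.eq_zero_iff_mem.2 hi, zero_add]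
    exact Ideal.mem_map_of_mem _ hj
  have hkillB : ∀ c ∈ mb ^ n, ∀ x : B, c • x = 0 := fun c hc x =>
    (Submodule.mem_bot Rb).1 (hB.le (Submodule.smul_mem_smul hc Submodule.mem_top))
  have hkillA : ∀ c ∈ mb ^ n, ∀ x : A, c • x = 0 := fun c hc x => ha (by
    rw [map_smul, map_zero, hkillB c hc])
  let qe : Q ≃+* Rb ⧸ mb ^ n :=
    (RingHom.quotientKerEquivOfSurjective hQsurj).symm.trans (Ideal.quotEquivOfEq hkerQ)
  have hqe : ∀ c : Rb, qe (algebraMap Rb Q c) = Ideal.Quotient.mk (mb ^ n) c := fun c => by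
    simp [qe, RingHom.quotientKerEquivOfSurjective_symm_apply]
  have tA : Module.IsTorsionBySet Rb A (mb ^ n : Ideal Rb) := fun x c => hkillA c c.2 x
  have tB : Module.IsTorsionBySet Rb B (mb ^ n : Ideal Rb) := fun x c => hkillB c c.2 x
  letI := tA.module
  letI := tB.module
  letI : Module Q A := Module.compHom A qe.toRingHom
  letI : Module Q B := Module.compHom B qe.toRingHom
  haveI : IsScalarTower Rb Q A := IsScalarTower.of_algebraMap_smul fun c x => by
    show qe (algebraMap Rb Q c) • x = c • x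
    rw [hqe]; rfl
  haveI : IsScalarTower Rb Q B := IsScalarTower.of_algebraMap_smul fun c x => by
    show qe (algebraMap Rb Q c) • x = c • x
    rw [hqe]; rfl
  let aQ : A →ₗ[Q] B :=
    { toFun := a
      map_add' := map_add a
      map_smul' := fun c x => by
        obtain ⟨c, rfl⟩ := hQsurj c
        show a (algebraMap Rb Q c • x) = algebraMap Rb Q c • a x
        rw [algebraMap_smul, algebraMap_smul, map_smul] }
  haveI : Module.Flat Q (Q ⊗[R] N) := h n
  haveI : Module.Flat Q (Q ⊗[Rb] M') := by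
    refine Module.Flat.of_linearEquiv (R := Q) (M := Q ⊗[R] N) ?_
    exact (AlgebraTensorModule.congr (LinearEquiv.refl Q Q) e).trans
      (AlgebraTensorModule.cancelBaseChange R Rb Q Q N)
  have h1 := (flat_baseChange_iff Rb Q M').1 ‹_› A B aQ ha
  exact (LinearMap.lTensor_inj_iff_rTensor_inj M' a).1 h1

/-- The least flattening ideal of a family of finite modules over local rings. -/
theorem exists_main [IsAdicComplete (maximalIdeal R) R] {ι : Type u} (L : ι → Type u)
    [∀ q, CommRing (L q)] [∀ q, Algebra R (L q)] [∀ q, IsNoetherianRing (L q)] [∀ q, IsLocalRing (L q)]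
    [∀ q, IsLocalHom (algebraMap R (L q))] (N : ι → Type u) [∀ q, AddCommGroup (N q)]
    [∀ q, Module R (N q)] [∀ q, Module (L q) (N q)] [∀ q, IsScalarTower R (L q) (N q)]
    [∀ q, Module.Finite (L q) (N q)] :
    ∃ I : Ideal R, I ≤ maximalIdeal R ∧ (∀ q, Module.Flat (R ⧸ I) ((R ⧸ I) ⊗[R] N q)) ∧
      (∀ J : Ideal R, (∀ q, Module.Flat (R ⧸ J) ((R ⧸ J) ⊗[R] N q)) → I ≤ J) ∧
      ∀ (n : ℕ) (R' : Type u) [CommRing R'] [Algebra R R'],
        (maximalIdeal R ^ n).map (algebraMap R R') = ⊥ →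
        ((∀ q, Module.Flat R' (R' ⊗[R] N q)) ↔ I.map (algebraMap R R') = ⊥) := by
  classical
  choose J hJm hJ using fun (q : ι) (n : ℕ) => exists_level R (N q) n
  let m := maximalIdeal R
  let I' : ℕ → Ideal R := fun n => m ^ n ⊔ ⨆ q, J q n
  have hmI : ∀ n, m ^ n ≤ I' n := fun n => le_sup_left
  have hchar : ∀ (n : ℕ) (R' : Type u) [CommRing R'] [Algebra R R'],
      (m ^ n).map (algebraMap R R') = ⊥ →
      ((∀ q, Module.Flat R' (R' ⊗[R] N q)) ↔ (I' n).map (algebraMap R R') = ⊥) := by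
    intro n R' _ _ h
    simp only [I', Ideal.map_sup, h, bot_sup_eq, Ideal.map_iSup, iSup_eq_bot]
    exact forall_congr' fun q => hJ q n R' h
  have hK : ∀ (n : ℕ) (K : Ideal R), m ^ n ≤ K →
      ((∀ q, Module.Flat (R ⧸ K) ((R ⧸ K) ⊗[R] N q)) ↔ I' n ≤ K) := fun n K h => by
    rw [hchar n (R ⧸ K) ((map_quot_eq_bot_iff R K _).2 h), map_quot_eq_bot_iff]
  have hPI : ∀ n q, Module.Flat (R ⧸ I' n) ((R ⧸ I' n) ⊗[R] N q) := fun n =>
    (hK n (I' n) (hmI n)).2 le_rfl
  have hanti : ∀ n, I' (n + 1) ≤ I' n := fun n =>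
    (hK (n + 1) (I' n) ((Ideal.pow_le_pow_right (Nat.le_succ n)).trans (hmI n))).1 (hPI n)
  have hanti' : Antitone I' := antitone_nat_of_succ_le hanti
  have hmono : ∀ (K K' : Ideal R), K ≤ K' → (∀ q, Module.Flat (R ⧸ K) ((R ⧸ K) ⊗[R] N q)) →
      ∀ q, Module.Flat (R ⧸ K') ((R ⧸ K') ⊗[R] N q) := by
    intro K K' hle h q
    haveI := h q
    letI : Algebra (R ⧸ K) (R ⧸ K') := (Ideal.Quotient.factor hle).toAlgebra
    haveI : IsScalarTower R (R ⧸ K) (R ⧸ K') := IsScalarTower.of_algebraMap_eq fun _ => rfl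
    exact flat_of_tower R (R ⧸ K) (R ⧸ K') (N q)
  have hcompat : ∀ n, I' n ≤ I' (n + 1) ⊔ m ^ n := fun n =>
    (hK n _ le_sup_right).1 (hmono _ _ le_sup_left (hPI (n + 1)))
  let I : Ideal R := ⨅ n, I' n
  have hII : ∀ n, I ⊔ m ^ n = I' n := by
    intro n
    refine le_antisymm (sup_le (iInf_le _ n) (hmI n)) fun x hx => ?_
    have hstep : ∀ (k : ℕ) (y : R), y ∈ I' (n + k) → ∃ y' ∈ I' (n + (k + 1)), y' - y ∈ m ^ (n + k) := by
      intro k y hy
      obtain ⟨a, ha, b, hb, rfl⟩ := Submodule.mem_sup.1 (hcompat (n + k) hy)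
      exact ⟨a, ha, by rw [sub_add_cancel_left]; exact neg_mem hb⟩
    choose nxt hnxt hd using hstep
    let f : ∀ k : ℕ, { y : R // y ∈ I' (n + k) } := fun k =>
      Nat.rec ⟨x, hx⟩ (fun k y => ⟨nxt k y.1 y.2, hnxt k y.1 y.2⟩) k
    have hf : ∀ {a b : ℕ}, a ≤ b → (f b).1 - (f a).1 ∈ m ^ (n + a) := by
      intro a b hab
      induction hab with
      | refl => rw [sub_self]; exact zero_mem _
      | @step b hab ih =>
        rw [show (f (b + 1)).1 - (f a).1 = ((f (b + 1)).1 - (f b).1) + ((f b).1 - (f a).1) by ring]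
        exact add_mem (Ideal.pow_le_pow_right (Nat.add_le_add_left hab n) (hd b _ (f b).2)) ih
    obtain ⟨y, hy⟩ := IsPrecomplete.prec (I := m) (M := R) inferInstance (f := fun k => (f k).1)
      fun {a b} hab => SModEq.sub_mem.2 (by
        rw [smul_eq_mul, Ideal.mul_top]
        rw [← neg_sub]
        exact neg_mem (Ideal.pow_le_pow_right (Nat.le_add_left a n) (hf hab)))
    have hyk : ∀ k, (f k).1 - y ∈ m ^ k := fun k => by
      have := SModEq.sub_mem.1 (hy k)
      rwa [smul_eq_mul, Ideal.mul_top] at this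
    refine Submodule.mem_sup.2 ⟨y, (Submodule.mem_iInf _).2 fun j => ?_, x - y, ?_, add_sub_cancel y x⟩
    · rw [show y = (f j).1 - ((f j).1 - y) by ring]
      exact sub_mem (hanti' (Nat.le_add_left j n) (f j).2) (hmI j (hyk j))
    · rw [show x - y = -((f n).1 - (f 0).1) + ((f n).1 - y) by
        show x - y = -((f n).1 - x) + ((f n).1 - y); ring]
      exact add_mem (neg_mem (hf (Nat.zero_le n))) (hyk n)
  have hI1 : I' 1 ≤ m :=
    sup_le (pow_one m).le (iSup_le fun q => hJm q 1 one_ne_zero)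
  have hIm : I ≤ m := (iInf_le _ 1).trans hI1
  refine ⟨I, hIm, fun q => flat_of_levels R (L := L q) (N q) I hIm fun n => by
      rw [hII n]; exact hPI n q,
    fun J hJ' => ?_, fun n R' _ _ h => ?_⟩
  · rcases eq_or_ne J ⊤ with rfl | hJt
    · exact le_top
    have hle : ∀ n, I ≤ J ⊔ m ^ n := fun n =>
      (iInf_le _ n).trans ((hK n _ le_sup_right).1 (hmono J _ le_sup_left hJ'))
    intro x hx
    haveI : Nontrivial (R ⧸ J) := Ideal.Quotient.nontrivial_iff.2 hJt
    haveI : IsLocalRing (R ⧸ J) := .of_surjective' _ Ideal.Quotient.mk_surjective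
    have hb : Ideal.Quotient.mk J x ∈ ⨅ n, (m.map (Ideal.Quotient.mk J)) ^ n := by
      refine Submodule.mem_iInf _ |>.2 fun n => ?_
      rw [← Ideal.map_pow]
      obtain ⟨a, ha, b, hb, hab⟩ := Submodule.mem_sup.1 (hle n hx)
      rw [← hab, map_add, Ideal.Quotient.eq_zero_iff_mem.2 ha, zero_add]
      exact Ideal.mem_map_of_mem _ hb
    rw [Ideal.iInf_pow_eq_bot_of_isLocalRing _ (fun h => by
      have := congrArg (Ideal.comap (Ideal.Quotient.mk J)) h
      rw [Ideal.comap_map_of_surjective _ Ideal.Quotient.mk_surjective, ← RingHom.ker_eq_comap_bot,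
        Ideal.mk_ker, Ideal.comap_top, sup_eq_left.2 (IsLocalRing.le_maximalIdeal hJt)] at this
      exact (maximalIdeal.isMaximal R).ne_top this), Ideal.mem_bot, Ideal.Quotient.eq_zero_iff_mem] at hb
    exact hb
  · rw [hchar n R' h, ← hII n, Ideal.map_sup, h, sup_bot_eq]

end Groth.Agent.FlatMor.FlatIdealC
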