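import Groth.Agent.FlatMor.FlatIdealC.Exists
import Mathlib.RingTheory.Localization.AtPrime.Basic
import Mathlib.RingTheory.Localization.Finiteness
import Mathlib.RingTheory.Localization.Submodule

/-!
# The family of localisations at the primes over the closed point
-/

set_option autoImplicit false
set_option linter.style.haveILetI false

universe u

open TensorProduct IsLocalRing

namespace Groth.Agent.FlatMor.FlatIdealC

/-- `I` is the least flattening ideal, with its description over Artinian quotients. -/
theorem exists_main_primes (R S : Type u) [CommRing R] [IsLocalRing R] [IsNoetherianRing R]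
    [IsAdicComplete (maximalIdeal R) R] [CommRing S] [Algebra R S] [IsNoetherianRing S]
    (M : Type u) [AddCommGroup M] [Module S M] [Module R M] [IsScalarTower R S M] [Module.Finite S M] :
    ∃ I : Ideal R, I ≤ maximalIdeal R ∧
      (∀ (q : Ideal S) [q.IsPrime], q.comap (algebraMap R S) = maximalIdeal R →
        Module.Flat (R ⧸ I) ((R ⧸ I) ⊗[R] LocalizedModule q.primeCompl M)) ∧
      (∀ J : Ideal R, (∀ (q : Ideal S) [q.IsPrime], q.comap (algebraMap R S) = maximalIdeal R →
        Module.Flat (R ⧸ J) ((R ⧸ J) ⊗[R] LocalizedModule q.primeCompl M)) → I ≤ J) ∧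
      ∀ (n : ℕ) (R' : Type u) [CommRing R'] [Algebra R R'],
        (maximalIdeal R ^ n).map (algebraMap R R') = ⊥ →
        ((∀ (q : Ideal S) [q.IsPrime], q.comap (algebraMap R S) = maximalIdeal R →
          Module.Flat R' (R' ⊗[R] LocalizedModule q.primeCompl M)) ↔ I.map (algebraMap R R') = ⊥) := by
  let ι := {q : PrimeSpectrum S // q.asIdeal.comap (algebraMap R S) = maximalIdeal R}
  let L : ι → Type u := fun q => Localization.AtPrime q.1.asIdeal
  let N : ι → Type u := fun q => LocalizedModule q.1.asIdeal.primeCompl M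
  haveI : ∀ q : ι, IsNoetherianRing (L q) := fun q =>
    IsLocalization.isNoetherianRing q.1.asIdeal.primeCompl (Localization.AtPrime q.1.asIdeal) inferInstance
  haveI : ∀ q : ι, IsLocalHom (algebraMap R (L q)) := fun q => by
    refine ((IsLocalRing.local_hom_TFAE (algebraMap R (L q))).out 4 0).mp ?_
    rw [IsScalarTower.algebraMap_eq R S (L q), ← Ideal.comap_comap]
    exact (congrArg (Ideal.comap (algebraMap R S))
      (IsLocalization.AtPrime.under_maximalIdeal (L q) q.1.asIdeal)).trans q.2
  haveI : ∀ q : ι, Module.Finite (L q) (N q) := fun q =>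
    Module.Finite.of_isLocalizedModule q.1.asIdeal.primeCompl
      (LocalizedModule.mkLinearMap q.1.asIdeal.primeCompl M)
  obtain ⟨I, hI, hP, hmin, hchar⟩ := exists_main R L N
  refine ⟨I, hI, fun q _ hq => hP ⟨⟨q, inferInstance⟩, hq⟩,
    fun J hJ => hmin J fun q => hJ q.1.asIdeal q.2, fun n R' _ _ h => ?_⟩
  rw [← hchar n R' h]
  exact ⟨fun hq q => hq q.1.asIdeal q.2, fun hq q _ hq' => hq ⟨⟨q, inferInstance⟩, hq'⟩⟩

end Groth.Agent.FlatMor.FlatIdealC
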