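import Groth.Agent.FlatMor.FlatIdealC.Transfer
import Mathlib.RingTheory.Flat.Basic
import Mathlib.RingTheory.Filtration
import Mathlib.RingTheory.LocalRing.RingHom.Basic
import Mathlib.RingTheory.Ideal.Quotient.Operations

/-!
# Flatness modulo powers of an ideal after a base change
-/

set_option autoImplicit false
set_option linter.style.haveILetI false

universe u

open TensorProduct Function IsLocalRing

namespace Groth.Agent.FlatMor.FlatIdealC

variable {R S R' S' : Type u} [CommRing R] [CommRing S] [CommRing R'] [CommRing S']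
  [Algebra R S] [Algebra R R'] [Algebra S S'] [Algebra R' S'] [Algebra R S']
  [IsScalarTower R S S'] [IsScalarTower R R' S'] [Algebra.IsPushout R S R' S']
  {M M' : Type u} [AddCommGroup M] [Module S M] [Module R M] [IsScalarTower R S M]
  [AddCommGroup M'] [Module S' M'] [Module R' M'] [IsScalarTower R' S' M'] [Module S M']
  [IsScalarTower S S' M'] (f : M →ₗ[S] M') (hf : IsBaseChange S' f)

variable (R R')

include hf in
/-- Flatness over the closed point of the base change, read modulo powers of the maximal ideal. -/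
theorem flat_quot_of_flatAt_ideal
    (m₁ : Ideal R')
    (H : ∀ (q' : Ideal S') [q'.IsPrime], m₁ ≤ q'.comap (algebraMap R' S') →
      Module.Flat R' (LocalizedModule q'.primeCompl M'))
    (n : ℕ) (q : Ideal S) [q.IsPrime] :
    Module.Flat (R' ⧸ m₁ ^ n)
      ((R' ⧸ m₁ ^ n) ⊗[R] LocalizedModule q.primeCompl M) := by
  rw [flat_baseChange_iff]
  intro A B _ _ _ _ _ _ _ _ a ha
  letI : Module R' A := Module.compHom A (Ideal.Quotient.mk (m₁ ^ n))
  letI : Module R' B := Module.compHom B (Ideal.Quotient.mk (m₁ ^ n))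
  haveI : IsScalarTower R' (R' ⧸ m₁ ^ n) A := IsScalarTower.of_algebraMap_smul fun _ _ => rfl
  haveI : IsScalarTower R' (R' ⧸ m₁ ^ n) B := IsScalarTower.of_algebraMap_smul fun _ _ => rfl
  haveI : IsScalarTower R R' A := IsScalarTower.of_algebraMap_smul fun r x => by
    rw [← algebraMap_smul (R' ⧸ m₁ ^ n), ← IsScalarTower.algebraMap_apply, algebraMap_smul]
  haveI : IsScalarTower R R' B := IsScalarTower.of_algebraMap_smul fun r x => by
    rw [← algebraMap_smul (R' ⧸ m₁ ^ n), ← IsScalarTower.algebraMap_apply, algebraMap_smul]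
  let a' : A →ₗ[R'] B := a.restrictScalars R'
  refine injective_localized q.primeCompl (a.restrictScalars R) fun z hz => ⟨1, one_mem _, ?_⟩
  rw [one_smul]
  apply (tensorEquiv R R' f hf A).injective
  rw [map_zero]
  have hw : a'.lTensor M' (tensorEquiv R R' f hf A z) = 0 := by
    rw [tensorEquiv_lTensor]
    exact (congrArg (tensorEquiv R R' f hf B) hz).trans (map_zero _)
  generalize tensorEquiv R R' f hf A z = w at hw ⊢
  by_contra hne
  let J : Ideal S' := LinearMap.ker (LinearMap.toSpanSingleton S' _ w)
  have hJ : J ≠ ⊤ := fun h => hne <| by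
    have h1 : (1 : S') ∈ J := h ▸ Submodule.mem_top
    simpa [J, LinearMap.mem_ker] using h1
  obtain ⟨P, hP, hJP⟩ := Ideal.exists_le_maximal J hJ
  haveI := hP
  by_cases h : m₁ ≤ P.comap (algebraMap R' S')
  · haveI := H P h
    obtain ⟨t, ht, htw⟩ := exists_smul_eq_zero P.primeCompl a'
      (Module.Flat.lTensor_preserves_injective_linearMap a' ha) hw
    exact ht (hJP (LinearMap.mem_ker.2 htw))
  · obtain ⟨r, hr, hrP⟩ := SetLike.not_le_iff_exists.1 h
    have hkill : ∀ v : M' ⊗[R'] A, algebraMap R' S' (r ^ n) • v = 0 := fun v => by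
      rw [algebraMap_smul]
      induction v using TensorProduct.induction_on with
      | zero => simp
      | tmul m x =>
        rw [← TensorProduct.tmul_smul]
        have h0 : r ^ n • x = 0 := by
          rw [← algebraMap_smul (R' ⧸ m₁ ^ n) (r ^ n) x, Ideal.Quotient.algebraMap_eq,
            Ideal.Quotient.eq_zero_iff_mem.2 (Ideal.pow_mem_pow hr n), zero_smul]
        rw [h0, TensorProduct.tmul_zero]
      | add x y hx hy => rw [smul_add, hx, hy, add_zero]
    have hrn : algebraMap R' S' (r ^ n) ∈ P := hJP (LinearMap.mem_ker.2 (hkill w))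
    rw [map_pow] at hrn
    exact hrP (hP.isPrime.mem_of_pow_mem n hrn)

end Groth.Agent.FlatMor.FlatIdealC
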