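import Groth.Prelude.Def_FlatCA
import Groth.Agent.FlatMor.FlatIdealC.Family
import Groth.Agent.FlatMor.FlatIdealC.QuotFlat
import Mathlib.RingTheory.Filtration

/-!
# The flattening ideal dies in a Noetherian base where the module is flat on a closed set
-/

set_option autoImplicit false
set_option linter.style.haveILetI false

universe u

open TensorProduct IsLocalRing

namespace Groth.Agent.FlatMor.FlatIdealC

variable {R S B SB R' : Type u} [CommRing R] [CommRing S] [CommRing B] [CommRing SB] [CommRing R']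
  [Algebra R S] [Algebra R B] [Algebra S SB] [Algebra B SB] [Algebra R SB] [IsScalarTower R S SB]
  [IsScalarTower R B SB] [Algebra.IsPushout R S B SB]
  {M MB : Type u} [AddCommGroup M] [Module S M] [Module R M] [IsScalarTower R S M]
  [AddCommGroup MB] [Module SB MB] [Module B MB] [IsScalarTower B SB MB] [Module S MB]
  [IsScalarTower S SB MB]

/-- The image of the flattening ideal in a local ring over a Noetherian model vanishes. -/
theorem le_ker_of_model [IsLocalRing R] [IsNoetherianRing B] [Algebra R R'] [Algebra B R']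
    [IsScalarTower R B R'] [IsLocalRing R'] (f : M →ₗ[S] MB) (hf : IsBaseChange SB f)
    (m₁ : Ideal B) (hm : (maximalIdeal R).map (algebraMap R B) ≤ m₁)
    (hm' : m₁ ≤ (maximalIdeal R').comap (algebraMap B R')) (I : Ideal R)
    (hchar : ∀ (n : ℕ) (Q : Type u) [CommRing Q] [Algebra R Q],
      (maximalIdeal R ^ n).map (algebraMap R Q) = ⊥ →
      ((∀ (q : Ideal S) [q.IsPrime], q.comap (algebraMap R S) = maximalIdeal R →
        Module.Flat Q (Q ⊗[R] LocalizedModule q.primeCompl M)) ↔ I.map (algebraMap R Q) = ⊥))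
    (H : ∀ (q : Ideal SB) [q.IsPrime], m₁ ≤ q.comap (algebraMap B SB) →
      Module.Flat B (LocalizedModule q.primeCompl MB)) :
    I ≤ RingHom.ker (algebraMap R R') := by
  intro x hx
  have hn : ∀ n : ℕ, algebraMap R B x ∈ m₁ ^ n • (⊤ : Submodule B B) := fun n => by
    let Q := B ⧸ m₁ ^ n
    have hQ : (maximalIdeal R ^ n).map (algebraMap R Q) = ⊥ := by
      rw [IsScalarTower.algebraMap_eq R B Q, ← Ideal.map_map, Ideal.map_eq_bot_iff_le_ker,
        Ideal.Quotient.algebraMap_eq, Ideal.mk_ker, Ideal.map_pow]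
      exact Ideal.pow_right_mono hm n
    have h0 : I.map (algebraMap R Q) = ⊥ := (hchar n Q hQ).1 fun q _ _ =>
      flat_quot_of_flatAt_ideal R B f hf m₁ H n q
    have := Ideal.mem_map_of_mem (algebraMap R Q) hx
    rw [h0, Ideal.mem_bot, IsScalarTower.algebraMap_apply R B Q, Ideal.Quotient.algebraMap_eq,
      Ideal.Quotient.eq_zero_iff_mem] at this
    rwa [smul_eq_mul, Ideal.mul_top]
  obtain ⟨c, hc⟩ := (Ideal.mem_iInf_smul_pow_eq_bot_iff m₁ _).1 ((Submodule.mem_iInf _).2 hn)
  have hc' : algebraMap B R' c * algebraMap R R' x = algebraMap R R' x := by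
    have := congrArg (algebraMap B R') hc
    rwa [smul_eq_mul, map_mul, ← IsScalarTower.algebraMap_apply] at this
  have hu : IsUnit (1 - algebraMap B R' c) :=
    IsLocalRing.isUnit_one_sub_self_of_mem_nonunits _ (hm' c.2)
  rw [RingHom.mem_ker]
  refine hu.mul_right_eq_zero.1 ?_
  rw [sub_mul, one_mul, hc', sub_self]

/-- The same, with the hypothesis stated for every base change to the model. -/
theorem le_ker_of_stage {R S B R' : Type u} [CommRing R] [CommRing S] [CommRing B] [CommRing R']
    [Algebra R S] [Algebra R B] [Algebra R R'] [Algebra B R'] [IsScalarTower R B R']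
    [IsLocalRing R] [IsNoetherianRing B] [IsLocalRing R']
    {M : Type u} [AddCommGroup M] [Module S M] [Module R M] [IsScalarTower R S M]
    (m₁ : Ideal B) (hm : (maximalIdeal R).map (algebraMap R B) ≤ m₁)
    (hm' : m₁ ≤ (maximalIdeal R').comap (algebraMap B R')) (I : Ideal R)
    (hchar : ∀ (n : ℕ) (Q : Type u) [CommRing Q] [Algebra R Q],
      (maximalIdeal R ^ n).map (algebraMap R Q) = ⊥ →
      ((∀ (q : Ideal S) [q.IsPrime], q.comap (algebraMap R S) = maximalIdeal R →
        Module.Flat Q (Q ⊗[R] LocalizedModule q.primeCompl M)) ↔ I.map (algebraMap R Q) = ⊥))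
    (H : ∀ (Si Mi : Type u) [CommRing Si] [Algebra S Si] [Algebra B Si] [Algebra R Si]
      [IsScalarTower R S Si] [IsScalarTower R B Si] [Algebra.IsPushout R S B Si] [AddCommGroup Mi]
      [Module Si Mi] [Module B Mi] [IsScalarTower B Si Mi] [Module S Mi] [IsScalarTower S Si Mi]
      (fi : M →ₗ[S] Mi), IsBaseChange Si fi →
      ∀ (q : Ideal Si) [q.IsPrime], m₁.map (algebraMap B Si) ≤ q → FlatCA.FlatAt B q Mi) :
    I ≤ RingHom.ker (algebraMap R R') := by
  letI : Algebra S (B ⊗[R] S) := Algebra.TensorProduct.rightAlgebra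
  haveI : Algebra.IsPushout R S B (B ⊗[R] S) := Algebra.IsPushout.symm inferInstance
  exact le_ker_of_model (R' := R') (TensorProduct.mk S (B ⊗[R] S) M 1)
    (TensorProduct.isBaseChange S M (B ⊗[R] S)) m₁ hm hm' I hchar fun q _ hq =>
      H (B ⊗[R] S) ((B ⊗[R] S) ⊗[S] M) _ (TensorProduct.isBaseChange S M (B ⊗[R] S)) q
        (Ideal.map_le_iff_le_comap.2 hq)

end Groth.Agent.FlatMor.FlatIdealC
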