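import Mathlib.RingTheory.Flat.Localization
import Mathlib.RingTheory.Localization.BaseChange
import Mathlib.RingTheory.IsTensorProduct

/-!
# Flatness of base changes and of localisations, through injectivity
-/

set_option autoImplicit false
set_option linter.style.haveILetI false

universe u

open TensorProduct Function

namespace Groth.Agent.FlatMor.FlatIdealC

/-- Flatness of a base change, tested on modules over the new ring. -/
theorem flat_baseChange_iff (R : Type u) [CommRing R] (R' : Type u) [CommRing R'] [Algebra R R']
    (N : Type u) [AddCommGroup N] [Module R N] :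
    Module.Flat R' (R' ⊗[R] N) ↔ ∀ (A B : Type u) [AddCommGroup A] [AddCommGroup B] [Module R' A]
      [Module R' B] [Module R A] [Module R B] [IsScalarTower R R' A] [IsScalarTower R R' B]
      (a : A →ₗ[R'] B), Injective a → Injective ((a.restrictScalars R).lTensor N) := by
  have key : ∀ (A B : Type u) [AddCommGroup A] [AddCommGroup B] [Module R' A] [Module R' B] [Module R A]
      [Module R B] [IsScalarTower R R' A] [IsScalarTower R R' B] (a : A →ₗ[R'] B),
      Injective (a.rTensor (R' ⊗[R] N)) ↔ Injective ((a.restrictScalars R).lTensor N) := by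
    intro A B _ _ _ _ _ _ _ _ a
    rw [← LinearMap.lTensor_inj_iff_rTensor_inj N (a.restrictScalars R) |>.symm]
    let eA := AlgebraTensorModule.cancelBaseChange R R' R' A N
    let eB := AlgebraTensorModule.cancelBaseChange R R' R' B N
    have h : ∀ z, (a.restrictScalars R).rTensor N (eA z) = eB (a.rTensor (R' ⊗[R] N) z) := by
      intro z
      induction z using TensorProduct.induction_on with
      | zero => simp
      | tmul x w =>
        induction w using TensorProduct.induction_on with
        | zero => simp
        | tmul r n => simp [eA, eB]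
        | add w₁ w₂ h₁ h₂ => simp only [tmul_add, map_add, h₁, h₂]
      | add z₁ z₂ h₁ h₂ => simp only [map_add, h₁, h₂]
    constructor
    · intro hi x y hxy
      obtain ⟨x, rfl⟩ := eA.surjective x
      obtain ⟨y, rfl⟩ := eA.surjective y
      rw [h, h] at hxy
      exact congrArg eA (hi (eB.injective hxy))
    · intro hi x y hxy
      exact eA.injective (hi (by rw [h, h, hxy]))
  rw [Module.Flat.iff_rTensor_preserves_injective_linearMap]
  constructor
  · intro H A B _ _ _ _ _ _ _ _ a ha
    exact (key A B a).1 (H a ha)
  · intro H A B _ _ _ _ a ha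
    letI : Module R A := Module.compHom A (algebraMap R R')
    letI : Module R B := Module.compHom B (algebraMap R R')
    haveI : IsScalarTower R R' A := IsScalarTower.of_algebraMap_smul fun _ _ => rfl
    haveI : IsScalarTower R R' B := IsScalarTower.of_algebraMap_smul fun _ _ => rfl
    exact (key A B a).2 (H A B a ha)

/-- Flat base changes stay flat. -/
theorem flat_of_tower (R : Type u) [CommRing R] (A : Type u) [CommRing A] [Algebra R A] (B : Type u)
    [CommRing B] [Algebra R B] [Algebra A B] [IsScalarTower R A B] (N : Type u) [AddCommGroup N]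
    [Module R N] [Module.Flat A (A ⊗[R] N)] : Module.Flat B (B ⊗[R] N) :=
  Module.Flat.of_linearEquiv (AlgebraTensorModule.cancelBaseChange R A B B N).symm

section Localized

variable {R S : Type u} [CommRing R] [CommRing S] [Algebra R S] (T : Submonoid S) {M : Type u}
  [AddCommGroup M] [Module R M] [Module S M] [IsScalarTower R S M] {A B : Type u} [AddCommGroup A]
  [AddCommGroup B] [Module R A] [Module R B] (a : A →ₗ[R] B)

/-- Elements killed after tensoring a module injective on a localisation are torsion. -/
theorem exists_smul_eq_zero (h : Injective (a.lTensor (LocalizedModule T M))) {z : M ⊗[R] A}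
    (hz : a.lTensor M z = 0) : ∃ t ∈ T, t • z = 0 := by
  let ι := LocalizedModule.mkLinearMap T M
  have h1 : (ι.restrictScalars R).rTensor A z = 0 := by
    apply h
    rw [map_zero, ← LinearMap.comp_apply, LinearMap.lTensor_comp_rTensor,
      ← LinearMap.rTensor_comp_lTensor, LinearMap.comp_apply, hz, map_zero]
  have : IsLocalizedModule T (AlgebraTensorModule.rTensor R A ι) := inferInstance
  obtain ⟨t, ht⟩ := IsLocalizedModule.exists_of_eq (S := T) (f := AlgebraTensorModule.rTensor R A ι)
    (x₁ := z) (x₂ := 0) (h1.trans (map_zero _).symm)
  exact ⟨t, t.2, by rwa [smul_zero] at ht⟩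

/-- Localisation preserves injectivity after tensoring. -/
theorem injective_localized (h : ∀ z : M ⊗[R] A, a.lTensor M z = 0 → ∃ t ∈ T, t • z = 0) :
    Injective (a.lTensor (LocalizedModule T M)) := by
  let ι := LocalizedModule.mkLinearMap T M
  let ιA := AlgebraTensorModule.rTensor R A ι
  let ιB := AlgebraTensorModule.rTensor R B ι
  have : IsLocalizedModule T ιA := inferInstance
  have : IsLocalizedModule T ιB := inferInstance
  rw [injective_iff_map_eq_zero]
  intro w hw
  obtain ⟨⟨z, s⟩, hzs⟩ := IsLocalizedModule.surj T ιA w
  have h2 : ιB (a.lTensor M z) = 0 := by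
    have h3 : AlgebraTensorModule.lTensor S (LocalizedModule T M) a (ιA z) = ιB (a.lTensor M z) := by
      clear hzs
      induction z using TensorProduct.induction_on with
      | zero => simp
      | tmul m x => rfl
      | add x y hx hy => simp only [map_add, hx, hy]
    rw [← h3, ← hzs, Submonoid.smul_def, map_smul]
    exact (congrArg ((s : S) • ·) hw).trans (smul_zero _)
  obtain ⟨t, ht⟩ := IsLocalizedModule.exists_of_eq (S := T) (f := ιB) (x₁ := a.lTensor M z) (x₂ := 0)
    (h2.trans (map_zero _).symm)
  rw [smul_zero] at ht
  obtain ⟨t', ht', hz'⟩ := h ((t : S) • z) (by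
    refine Eq.trans ?_ ht
    exact (AlgebraTensorModule.lTensor S M a).map_smul _ _)
  have h5 : (((⟨t', ht'⟩ : T) * t * s : T)) • w = 0 := by
    rw [mul_smul, show (s • w) = ιA z from hzs, mul_smul, Submonoid.smul_def, Submonoid.smul_def,
      ← map_smul, ← map_smul]
    exact (congrArg ιA hz').trans (map_zero _)
  exact ((Module.End.isUnit_iff _).mp
    (IsLocalizedModule.map_units ιA ((⟨t', ht'⟩ : T) * t * s))).1 (h5.trans (map_zero _).symm)

end Localized

end Groth.Agent.FlatMor.FlatIdealC
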